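import Groth.Prelude.Def_Frob
import Groth.Agent.HTopCov.AlmostBlowUp
import Mathlib.AlgebraicGeometry.IdealSheaf.Functorial
import Mathlib.FieldTheory.Perfect
import Mathlib.FieldTheory.IsAlgClosed.Basic
import Mathlib.FieldTheory.Finite.Basic

/-! # Iterated absolute Frobenius and ideal sheaves -/

universe u

open CategoryTheory AlgebraicGeometry

namespace Groth.Agent.FrobIter

variable (p : ℕ) [Fact p.Prime]

/-- Iterated Frobenius. -/
noncomputable def iter (X : Scheme.{u}) [FrobSch.IsCharP X p] : ℕ → (X ⟶ X)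
  | 0 => 𝟙 X
  | N + 1 => iter X N ≫ FrobSch.frob X p

variable {p} {X Y : Scheme.{u}} [FrobSch.IsCharP X p] [FrobSch.IsCharP Y p]

theorem iter_eq (N : ℕ) : iter p X N = End.asHom (End.of (FrobSch.frob X p) ^ N) := by
  induction N with
  | zero => rw [pow_zero]; rfl
  | succ N ih => rw [pow_succ', iter, ih]; rfl

theorem iter_comp (f : X ⟶ Y) (N : ℕ) : iter p X N ≫ f = f ≫ iter p Y N := by
  induction N with
  | zero => simp [iter]
  | succ N ih => rw [iter, iter, Category.assoc, FrobSch.frob_comp, reassoc_of% ih]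

theorem iter_apply (N : ℕ) (x : X) : (iter p X N).base x = x := by
  induction N with
  | zero => rfl
  | succ N ih => rw [iter, Scheme.Hom.comp_base, TopCat.comp_app, ih]; rfl

theorem pow_le_pow_left {I J : X.IdealSheafData} (h : I ≤ J) (n : ℕ) : I ^ n ≤ J ^ n := fun U => by
  simp only [Scheme.IdealSheafData.ideal_pow, Pi.pow_apply]
  exact Ideal.pow_right_mono (h U) n

theorem pow_le_pow_right {I : X.IdealSheafData} {m n : ℕ} (h : m ≤ n) : I ^ n ≤ I ^ m := fun U => by
  simp only [Scheme.IdealSheafData.ideal_pow, Pi.pow_apply]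
  exact Ideal.pow_le_pow_right h

theorem pow_mul' (I : X.IdealSheafData) (m n : ℕ) : (I ^ m) ^ n = I ^ (m * n) := by
  ext U : 2
  simp only [Scheme.IdealSheafData.ideal_pow, Pi.pow_apply, ← pow_mul]

theorem comap_frob_le (M : X.IdealSheafData) : M.comap (FrobSch.frob X p) ≤ M ^ p := fun U => by
  rw [HTopCov.ideal_comap_appLE (FrobSch.frob X p) M U U le_rfl, Scheme.IdealSheafData.ideal_pow, Pi.pow_apply,
    Ideal.map_le_iff_le_comap]
  intro a ha
  rw [Ideal.mem_comap]
  have : ((FrobSch.frob X p).appLE U.1 U.1 le_rfl).hom a = a ^ p := by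
    rw [Scheme.Hom.appLE]
    show X.presheaf.map _ ((FrobSch.frob X p).app U.1 a) = _
    rw [FrobSch.frob_app]
    exact ConcreteCategory.congr_hom (X.presheaf.map_id _) _
  rw [this]
  exact Ideal.pow_mem_pow ha p

theorem comap_iter_le (M : X.IdealSheafData) (N : ℕ) : M.comap (iter p X N) ≤ M ^ p ^ N := by
  induction N generalizing M with
  | zero => rw [iter, Scheme.IdealSheafData.comap_id]; intro U; simp
  | succ N ih =>
    rw [iter, Scheme.IdealSheafData.comap_comp, pow_succ']
    refine (ih _).trans ?_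
    rw [← pow_mul']
    exact pow_le_pow_left (comap_frob_le M) _

/-- Iterated Frobenius of the spectrum of a ring. -/
theorem iter_Spec (R : Type u) [CommRing R] [CharP R p] (N : ℕ) :
    iter p (Spec (CommRingCat.of R)) N = Spec.map (CommRingCat.ofHom (iterateFrobenius R p N)) := by
  induction N with
  | zero =>
    rw [iter, iterateFrobenius_zero]
    exact (Spec.map_id _).symm
  | succ N ih =>
    have h1 : FrobSch.frob (Spec (CommRingCat.of R)) p = Spec.map (CommRingCat.ofHom (frobenius R p)) := by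
      refine ext_of_isAffine ?_
      ext x
      rw [FrobSch.frob_appTop]
      apply (Scheme.ΓSpecIso (CommRingCat.of R)).commRingCatIsoToRingEquiv.injective
      rw [map_pow]
      exact (ConcreteCategory.congr_hom (Scheme.ΓSpecIso_naturality (CommRingCat.ofHom (frobenius R p))) x).symm
    rw [iter, ih, h1, ← Spec.map_comp]
    congr 1
    ext x
    simp [iterateFrobenius_def, frobenius_def, pow_succ', ← pow_mul]

/-- A twist by the inverse of Frobenius. -/
theorem exists_twist {C C₀ : Scheme.{u}} (k₀ : Type u) [Field k₀] [Fintype k₀] [CharP k₀ p] (e : ℕ)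
    (hq : Fintype.card k₀ = p ^ e) (K : Type u) [Field K] [Algebra k₀ K] [IsAlgClosure k₀ K]
    (f₀ : C₀ ⟶ Spec (CommRingCat.of k₀)) [FrobSch.IsCharP C₀ p]
    (πC₀ : C ⟶ C₀) (πK : C ⟶ Spec (CommRingCat.of K))
    (hC : IsPullback πC₀ πK f₀ (Spec.map (CommRingCat.ofHom (algebraMap k₀ K))))
    (n : ℕ) (Fr : C ⟶ C)
    (hFr₀ : Fr ≫ πC₀ = πC₀ ≫ End.asHom (End.of (FrobSch.frob C₀ p) ^ (e * n)))
    (hFrK : Fr ≫ πK = πK) [FrobSch.IsCharP C p] :
    ∃ τ : C ⟶ C, Fr = iter p C (e * n) ≫ τ ∧ τ ≫ πC₀ = πC₀ := by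
  haveI : IsAlgClosed K := IsAlgClosure.isAlgClosed k₀
  haveI : CharP K p := charP_of_injective_algebraMap (algebraMap k₀ K).injective p
  haveI : ExpChar K p := ExpChar.prime Fact.out
  haveI : PerfectRing K p := inferInstance
  let σ := iterateFrobeniusEquiv K p (e * n)
  have hk : ∀ x : k₀, σ (algebraMap k₀ K x) = algebraMap k₀ K x := fun x => by
    rw [iterateFrobeniusEquiv_apply, iterateFrobenius_def, ← map_pow, pow_mul, ← hq, FiniteField.pow_card_pow]
  let ρ : Spec (CommRingCat.of K) ⟶ Spec (CommRingCat.of K) := Spec.map (CommRingCat.ofHom σ.symm.toRingHom)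
  have hρ : ρ ≫ Spec.map (CommRingCat.ofHom (algebraMap k₀ K)) = Spec.map (CommRingCat.ofHom (algebraMap k₀ K)) := by
    rw [← Spec.map_comp]
    congr 1
    ext x
    exact (σ.eq_symm_apply.2 (hk x)).symm
  let τ : C ⟶ C := hC.lift πC₀ (πK ≫ ρ) (by rw [Category.assoc, hρ]; exact hC.w)
  refine ⟨τ, hC.hom_ext ?_ ?_, hC.lift_fst _ _ _⟩
  · rw [Category.assoc, hC.lift_fst, hFr₀, ← iter_eq, iter_comp]
  · rw [Category.assoc, hC.lift_snd, hFrK, ← Category.assoc, iter_comp, Category.assoc, iter_Spec, ← Spec.map_comp]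
    have : CommRingCat.ofHom σ.symm.toRingHom ≫ CommRingCat.ofHom (iterateFrobenius K p (e * n)) = 𝟙 _ := by
      ext x
      exact σ.apply_symm_apply x
    rw [this, Spec.map_id, Category.comp_id]

/-- The estimate for twisted inverse images. -/
theorem comap_iter_estimate (M J : X.IdealSheafData) (hs : (J.support : Set X) ⊆ M.support) {d N : ℕ}
    (hd : J.radical ^ d ≤ J) (hn : d < p ^ N) :
    M.comap (iter p X N) ≤ J ∧ M.comap (iter p X N) ^ d ≤ J ^ (d + 1) := by
  have hM : M ≤ J.radical := by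
    rw [← Scheme.IdealSheafData.vanishingIdeal_support]
    exact Scheme.IdealSheafData.le_support_iff_le_vanishingIdeal.1 hs
  have h : M.comap (iter p X N) ≤ J.radical ^ p ^ N :=
    (comap_iter_le M N).trans (pow_le_pow_left hM _)
  refine ⟨h.trans ((pow_le_pow_right hn.le).trans hd), ?_⟩
  refine (pow_le_pow_left h d).trans ?_
  rw [pow_mul', mul_comm, ← pow_mul']
  exact (pow_le_pow_left hd _).trans (pow_le_pow_right hn)

end Groth.Agent.FrobIter
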